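import Cfsg.Agent.Lib.Compute.Schur2.Co2.TK0
import Cfsg.Agent.Lib.Compute.Schur2.Co2.TK1
import Cfsg.Agent.Lib.Compute.Schur2.Co2.TK2
import Cfsg.Agent.Lib.Compute.Schur2.Co2.TK3
import Cfsg.Agent.Lib.Compute.Schur2.Co2.TK4
import Cfsg.Agent.Lib.Compute.Schur2.Co2.TF
import Cfsg.Agent.Lib.Compute.Schur2.Co2.TU0
import Cfsg.Agent.Lib.Compute.Schur2.Co2.TU1
import Cfsg.Agent.Lib.Compute.Schur2.Co2.TU2
import Cfsg.Agent.Lib.Compute.Schur2.Co2.TU3
import Cfsg.Agent.Lib.Compute.Schur2.Co2.TU4
import Cfsg.Agent.Lib.Compute.Schur2.Co2.TU5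
import Cfsg.Agent.Lib.Compute.Schur2.Co2.TU6
import Cfsg.Agent.Lib.Compute.Schur2.Co2.TU7
import Cfsg.Agent.Lib.Compute.Schur2.Co2.TU8
import Cfsg.Agent.Lib.Compute.Schur2.Co2.TU9
import Cfsg.Agent.Lib.Compute.Schur2.Co2.TU10
import Cfsg.Agent.Lib.Compute.Schur2.Co2.TU11
import Cfsg.Agent.Lib.Compute.Schur2.Co2.TU12
import Cfsg.Agent.Lib.Compute.Schur2.Co2.TU13
import Cfsg.Agent.Lib.Compute.Schur2.Co2.TU14
import Cfsg.Agent.Lib.Compute.Schur2.McL.Cover
import Cfsg.Agent.Lib.Compute.Schur2.McL.Cover2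

/-!
# The table of `Co₂` over `McL`: the assembly of the checks
-/

set_option autoImplicit false
set_option maxRecDepth 1000000

namespace Cfsg.Agent.Lib.Compute.Schur2.Co2.T

open Cfsg Cfsg.Agent.Lib.Compute.SchurLin Cfsg.Agent.Lib.Compute.Schur2
open Cfsg.Agent.Lib.Compute.PermCert (allB)
open Cfsg.Agent.Lib.Compute.ToddCoxeterCore (allFrom)

open Cfsg.Agent.Lib.Compute.ToddCoxeterPresented (allFrom_chain allFrom_nil allFrom_all)
open Cfsg.Agent.Lib.Compute.PermCert (allB_iff)

universe u

theorem allB_of_pts0 {f : ℕ → Bool} {n : ℕ} (h : ptsB 0 f n = true) : allB f n = true := by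
  rw [allB_iff]
  intro i hi
  have h3 := (allB_iff _ _).1 h i hi
  have h4 : Nat.add 0 i = i := Nat.zero_add i
  rwa [h4] at h3

theorem keysAll : ∀ k, 0 ≤ k → k < 423936 → CC.chkKey k = true :=
  (allFrom_chain (allFrom_chain (allFrom_chain (allFrom_chain (allFrom_chain (allFrom_chain (allFrom_chain (allFrom_chain (allFrom_chain (allFrom_chain (allFrom_chain (allFrom_chain (allFrom_chain (allFrom_chain (allFrom_chain (allFrom_chain (allFrom_chain (allFrom_nil CC.chkKey (nat_lit 0)) key0 (c := 26000) rfl) key1 (c := 52000) rfl) key2 (c := 78000) rfl) key3 (c := 104000) rfl) key4 (c := 130000) rfl) key5 (c := 156000) rfl) key6 (c := 182000) rfl) key7 (c := 208000) rfl) key8 (c := 234000) rfl) key9 (c := 260000) rfl) key10 (c := 286000) rfl) key11 (c := 312000) rfl) key12 (c := 338000) rfl) key13 (c := 364000) rfl) key14 (c := 390000) rfl) key15 (c := 416000) rfl) key16 (c := 423936) rfl)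

theorem finAll : ∀ i, 0 ≤ i → i < 47104 → CC.chkFin (List.range CC.L) i = true :=
  (allFrom_chain (allFrom_chain (allFrom_chain (allFrom_chain (allFrom_chain (allFrom_chain (allFrom_chain (allFrom_chain (allFrom_nil (CC.chkFin (List.range CC.L)) (nat_lit 0)) fin0 (c := 6000) rfl) fin1 (c := 12000) rfl) fin2 (c := 18000) rfl) fin3 (c := 24000) rfl) fin4 (c := 30000) rfl) fin5 (c := 36000) rfl) fin6 (c := 42000) rfl) fin7 (c := 47104) rfl)

theorem tAll : allB (fun i => allB (fun x => Nat.beq (CC.T x i) (c.t i x)) (nat_lit 8)) 47104 = true :=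
  (allB_split (allB_split (allB_split (allB_split (allB_split (allB_split (allB_split (allB_of_pts0 tT0) tT1 (c := 12000) rfl) tT2 (c := 18000) rfl) tT3 (c := 24000) rfl) tT4 (c := 30000) rfl) tT5 (c := 36000) rfl) tT6 (c := 42000) rfl) tT7 (c := 47104) rfl)

/-- Soundness of the table. -/
theorem sound : TC.Sound.{u} c :=
  sound_of_parts (E := eE) (M := 423936) (Lbl := 47104) (Pd := eP) (rt := rT) (m := 22) (by decide +kernel) (by decide +kernel)
    (by decide +kernel) (allB_all treeA) rulesA keysAll (allFrom_all lblA rfl) finAll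
    (fun i hi x hx => (allB_iff _ _).1 ((allB_iff _ _).1 tAll i hi) x hx)

/-- The correspondence of relators with the inner relators. -/
def mp (k : ℕ) : ℕ := bif Nat.blt k 3 then k else Nat.add k 19

theorem nestChk : nestB c McL.T.c mp = true := by decide +kernel

theorem hSB : SubBound.{u} c (McL.T.c.N * (McL.L.c.N * 7)) := subBound_nest McL.T.sound McL.T.hSB nestChk

theorem upAll : allB (fun i => allB (u.fedgeCheck2 24 16 pk rvR i) (Nat.mul 2 u.n)) u.N = true :=
  (allB_split (allB_split (allB_split (allB_split (allB_split (allB_split (allB_split (allB_split (allB_split (allB_split (allB_split (allB_split (allB_split (allB_split (allB_split (allB_split (allB_split (allB_split (allB_split (allB_split (allB_split (allB_split (allB_split (allB_split (allB_split (allB_split (allB_split (allB_split (allB_split (allB_split (allB_split (allB_split (allB_split (allB_split (allB_split (allB_split (allB_split (allB_split (allB_split (allB_split (allB_split (allB_split (allB_split (allB_split (allB_split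 (allB_split (allB_split (allB_split (allB_split (allB_split (allB_split (allB_split (allB_split (allB_split (allB_split (allB_split (allB_split (allB_split (allB_of_pts0 up0) up1 (c := 1600) rfl) up2 (c := 2400) rfl) up3 (c := 3200) rfl) up4 (c := 4000) rfl) up5 (c := 4800) rfl) up6 (c := 5600) rfl) up7 (c := 6400) rfl) up8 (c := 7200) rfl) up9 (c := 8000) rfl) up10 (c := 8800) rfl) up11 (c := 9600) rfl) up12 (c := 10400) rfl) up13 (c := 11200) rfl) up14 (c := 12000) rfl) up15 (c := 12800) rfl) up16 (c := 13600) rfl) up17 (c := 14400) rfl) up18 (c := 15200) rfl) up19 (c := 16000) rfl) up20 (c := 16800) rfl) up21 (c := 17600) rfl) up22 (c := 18400) rfl) up23 (c := 19200) rfl) up24 (c := 20000) rfl) up25 (c := 20800) rfl) up26 (c := 21600) rfl) up27 (c := 22400) rfl) up28 (c := 23200) rfl) up29 (c := 24000) rfl) up30 (c := 24800) rfl) up31 (c := 25600) rfl) up32 (c := 26400) rfl) up33 (c := 27200) rfl) up34 (c := 28000) rfl) up35 (c := 28800) rfl) up36 (c := 29600) rfl) up37 (c := 30400) rfl) up38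 (c := 31200) rfl) up39 (c := 32000) rfl) up40 (c := 32800) rfl) up41 (c := 33600) rfl) up42 (c := 34400) rfl) up43 (c := 35200) rfl) up44 (c := 36000) rfl) up45 (c := 36800) rfl) up46 (c := 37600) rfl) up47 (c := 38400) rfl) up48 (c := 39200) rfl) up49 (c := 40000) rfl) up50 (c := 40800) rfl) up51 (c := 41600) rfl) up52 (c := 42400) rfl) up53 (c := 43200) rfl) up54 (c := 44000) rfl) up55 (c := 44800) rfl) up56 (c := 45600) rfl) up57 (c := 46400) rfl) up58 (c := 47104) rfl)

theorem upChk : u.check = true :=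
  UP.check_of_parts2 (B := 24) (b := 16) (P := pk) (R := rvR) (fun _ _ => rfl) (fun _ _ => rfl)
    (by decide +kernel) (by decide +kernel) (by decide +kernel) upAll

theorem tailChk : UP.tailCheck u d = true := by decide +kernel

theorem hnormC : normB c.n c.W = true := by decide +kernel

theorem hnormU : normB u.n u.W = true := by decide +kernel

/-- The word of the reflection. -/
def TW : List ℕ := [2, 0, 3, 1, 3, 0, 2, 2, 0, 3, 1, 3, 0, 3, 4, 0, 4, 0, 2, 1, 3, 1, 2, 2, 0, 3, 1, 2, 6, 0, 3, 0, 6, 1, 4, 1, 2, 1, 2, 4, 2]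

theorem hkChk : (36 < c.nrel ∧ 37 < c.nrel ∧ 38 < c.nrel ∧ 39 < c.nrel) ∧
    c.W.getD 36 [] = powW (substW (c.W.drop c.nrel) McL.T.w1b) 3 ∧
    c.W.getD 37 [] = Cover.commW (substW (c.W.drop c.nrel) McL.T.w1b) (substW (c.W.drop c.nrel) McL.T.w2b) ∧
    c.W.getD 38 [] = TW ++ substW (c.W.drop c.nrel) McL.T.w1b ++ invW TW ++ substW (c.W.drop c.nrel) McL.T.w1b ∧
    c.W.getD 39 [] = TW ++ substW (c.W.drop c.nrel) McL.T.w2b ++ invW TW ++ invW (substW (c.W.drop c.nrel) McL.T.w2b) := by
  decide +kernel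

theorem hWu : u.W = c.W.take 22 := by decide +kernel

/-- Groups with the relators of the table, generated by the letters, of the order of `Co₂`, have trivial multiplier and
are perfect. -/
theorem presTriv : PresTriv c (c.N * (McL.T.c.N * (McL.L.c.N * 7))) := by
  refine presTriv_of_table sound hSB (by decide) hnormC ?_ u rfl rfl rfl rfl rfl hWu (by decide) hnormU rfl rfl upChk d rfl tailChk
  intro X _ _ el hrel hgen hcard
  exact Cover.hasSec_of_cover sound hSB McL.T.coverPropB nestChk hkChk hrel hgen hcard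

end Cfsg.Agent.Lib.Compute.Schur2.Co2.T
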